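import Cfsg.Prelude.Def_AxialAlgebras
import Mathlib

/-!
Two commuting Majorana involutions: the product of the axes.
-/

set_option autoImplicit false

namespace CfsgLib.Axial

open Cfsg.Axial

variable {V : Type*} [AddCommGroup V] [Module ℝ V] {mul : V →ₗ[ℝ] V →ₗ[ℝ] V}

theorem mem_eigen {a v : V} {c : ℝ} : v ∈ eigen mul a c ↔ mul a v = c • v :=
  Module.End.mem_eigenspace_iff

theorem mem_eigenSum_pair {a w : V} {c d : ℝ} :
    w ∈ eigenSum mul a {c, d} ↔ ∃ p, mul a p = c • p ∧ ∃ q, mul a q = d • q ∧ p + q = w := by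
  rw [eigenSum, iSup_pair, Submodule.mem_sup]
  simp [mem_eigen]

theorem quarter_inter {a w : V} (hw : mul a w = (1 / 4 : ℝ) • w) (h : w ∈ eigenSum mul a {1, 0}) :
    w = 0 := by
  obtain ⟨p, hp, q, hq, hpq⟩ := mem_eigenSum_pair.1 h
  rw [one_smul] at hp
  rw [zero_smul] at hq
  have hp' : p = (1 / 4 : ℝ) • w := by rw [← hw, ← hpq, map_add, hp, hq, add_zero]
  have h' := hp
  rw [hp', map_smul, hw, smul_smul] at h'
  have h'' : ((1 / 4 * (1 / 4) : ℝ) - 1 / 4) • w = 0 := by rw [sub_smul, h', sub_self]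
  exact (smul_eq_zero.1 h'').resolve_left (by norm_num)

theorem exists_parts {a : V} (h : eigenSum mul a majoranaSpectrum = ⊤) (x : V) :
    ∃ p q r s : V, mul a p = (1 : ℝ) • p ∧ mul a q = (0 : ℝ) • q ∧ mul a r = (1 / 4 : ℝ) • r ∧
      mul a s = (1 / 32 : ℝ) • s ∧ p + q + r + s = x := by
  have hx : x ∈ eigenSum mul a majoranaSpectrum := h ▸ Submodule.mem_top
  rw [eigenSum, majoranaSpectrum, iSup_insert, iSup_insert, iSup_insert, iSup_singleton] at hx
  obtain ⟨p, hp, t, ht, rfl⟩ := Submodule.mem_sup.1 hx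
  obtain ⟨q, hq, t', ht', rfl⟩ := Submodule.mem_sup.1 ht
  obtain ⟨r, hr, s, hs, rfl⟩ := Submodule.mem_sup.1 ht'
  exact ⟨p, q, r, s, mem_eigen.1 hp, mem_eigen.1 hq, mem_eigen.1 hr, mem_eigen.1 hs, by abel⟩

/-- what one axis knows about the other -/
theorem half_relations {B : LinearMap.BilinForm ℝ V} {μ : V ≃ₗ[ℝ] V} {a x : V}
    (hV : IsMajoranaAmbient mul B) (h : IsMajoranaPair mul B μ a) (hn : B a a = 1)
    (hfix : μ x = x) (hxx : mul x x = x) :
    mul a (mul a x) = (3 / 4 * B a x) • a + (1 / 4 : ℝ) • mul a x ∧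
      (mul x (mul a x) = (3 / 4 * B a x) • x + (1 / 4 : ℝ) • mul a x →
        (32 : ℝ) • mul (mul a x) (mul a x) =
          (6 * B a x) • x + (16 * B a x * B a x + 4 * B a x) • a + (8 * B a x - 2) • mul a x) := by
  obtain ⟨hcomm, -, -, hassoc, -⟩ := hV
  obtain ⟨-, -, ⟨⟨ha0, haa, htop, hlaw⟩, hline⟩, hτ⟩ := h
  obtain ⟨p, q, r, s, hp, hq, hr, hs, hsum⟩ := exists_parts htop x
  obtain ⟨hplus, hminus⟩ := hτ
  have hS : ∀ c ∈ ({1, 0, 1 / 4} : Set ℝ), ∀ v, mul a v = c • v → μ v = v := fun c hc v hv =>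
    hplus v (Submodule.mem_iSup_of_mem c (Submodule.mem_iSup_of_mem hc (mem_eigen.2 hv)))
  have hs0 : s = 0 := by
    have hs' : μ s = -s := hminus s (mem_eigen.2 hs)
    have e := hfix
    rw [← hsum, map_add, map_add, map_add, hS 1 (by simp) p hp, hS 0 (by simp) q hq, hS (1 / 4) (by simp) r hr,
      hs', add_right_inj] at e
    have : (2 : ℝ) • s = 0 := by rw [two_smul]; exact neg_eq_iff_add_eq_zero.1 e
    exact (smul_eq_zero.1 this).resolve_left (by norm_num)
  subst hs0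
  rw [add_zero] at hsum
  have horth : ∀ c : ℝ, c ≠ 1 → ∀ v, mul a v = c • v → B a v = 0 := by
    intro c hc v hv
    have e := hassoc a a v
    rw [haa, hv, map_smul, smul_eq_mul] at e
    exact (mul_eq_zero.1 (show (c - 1) * B a v = 0 by linarith)).resolve_left (sub_ne_zero.2 hc)
  obtain ⟨l, rfl⟩ := Submodule.mem_span_singleton.1 (hline ▸ mem_eigen.2 hp : p ∈ Submodule.span ℝ {a})
  have hl : B a x = l := by
    rw [← hsum, map_add, map_add, map_smul, hn, horth 0 (by norm_num) q hq,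
      horth (1 / 4) (by norm_num) r hr, smul_eq_mul]
    ring
  rw [hl]
  rw [one_smul] at hp
  rw [zero_smul] at hq
  have hm : mul a x = l • a + (1 / 4 : ℝ) • r := by
    rw [← hsum, map_add, map_add, hp, hq, hr]; abel
  refine ⟨?_, fun hxm => ?_⟩
  · rw [hm, map_add, map_smul, map_smul, haa, hr]; module
  have hr' : r = (4 : ℝ) • mul a x - (4 * l) • a := by rw [hm]; module
  have hq' : q = x + (3 * l) • a - (4 : ℝ) • mul a x := by
    rw [← sub_eq_zero]
    linear_combination (norm := module) hsum + (4 : ℝ) • hm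
  have hqr : mul q r ∈ eigen mul a (1 / 4) := by
    have := hlaw 0 (by simp [majoranaSpectrum]) (1 / 4) (by simp [majoranaSpectrum]) q
      (mem_eigen.2 (by rw [hq, zero_smul])) r (mem_eigen.2 hr)
    rw [show monsterLaw (1 / 4 : ℝ) (1 / 32) 0 (1 / 4) = ({1 / 4} : Set ℝ) by norm_num [monsterLaw],
      eigenSum, iSup_singleton] at this
    exact this
  have hlow : ∀ c d : ℝ, c ∈ majoranaSpectrum → d ∈ majoranaSpectrum →
      monsterLaw (1 / 4) (1 / 32) c d ⊆ {1, 0} → ∀ u v, mul a u = c • u → mul a v = d • v →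
        mul u v ∈ eigenSum mul a {1, 0} := fun c d hc hd hsub u v hu hv =>
    biSup_mono (f := fun c => eigen mul a c) hsub (hlaw c hc d hd u (mem_eigen.2 hu) v (mem_eigen.2 hv))
  have hqq := hlow 0 0 (by simp [majoranaSpectrum]) (by simp [majoranaSpectrum])
    (by norm_num [monsterLaw]) q q (by rw [hq, zero_smul]) (by rw [hq, zero_smul])
  have hrr := hlow (1 / 4) (1 / 4) (by simp [majoranaSpectrum]) (by simp [majoranaSpectrum])
    (by norm_num [monsterLaw]) r r hr hr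
  set w := (1 - l / 2) • r - (2 : ℝ) • mul q r with hw
  have hw0 : w = 0 := by
    refine quarter_inter (mul := mul) (a := a) ?_ ?_
    · rw [hw, map_sub, map_smul, map_smul, hr, mem_eigen.1 hqr]; module
    · have key : w = (l * l - l) • a - q + mul q q + mul r r := by
        have hexp : mul x x = (l * l) • a + mul q q + mul r r + (2 : ℝ) • mul q r + (l / 2) • r := by
          rw [← hsum]
          simp only [map_add, map_smul, LinearMap.add_apply, LinearMap.smul_apply]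
          rw [hcomm q a, hcomm r a, hcomm r q, haa, hq, hr]
          module
        rw [hw]
        linear_combination (norm := module) hexp - hxx + hsum
      rw [key]
      have hA : a ∈ eigenSum mul a {1, 0} := mem_eigenSum_pair.2 ⟨a, by rw [haa, one_smul], 0, by simp, add_zero a⟩
      have hQ : q ∈ eigenSum mul a {1, 0} := mem_eigenSum_pair.2 ⟨0, by simp, q, by rw [hq, zero_smul], zero_add q⟩
      exact add_mem (add_mem (sub_mem (Submodule.smul_mem _ _ hA) hQ) hqq) hrr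
  have hprod : mul q r = (3 * l) • x + (9 * l * l) • a + (1 + 3 * l) • mul a x
      - (16 : ℝ) • mul (mul a x) (mul a x) := by
    have e1 : mul a (mul a x) = (3 / 4 * l) • a + (1 / 4 : ℝ) • mul a x := by
      rw [hm, map_add, map_smul, map_smul, haa, hr]; module
    have e2 : mul x (mul a x) = (3 / 4 * l) • x + (1 / 4 : ℝ) • mul a x := hxm
    rw [hq', hr']
    simp only [map_add, map_sub, map_smul, LinearMap.add_apply, LinearMap.sub_apply, LinearMap.smul_apply]
    rw [haa, hcomm x a, hcomm (mul a x) a, e1, e2]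
    module
  rw [hw, hprod, hr'] at hw0
  linear_combination (norm := module) hw0

theorem commuting_pair {B : LinearMap.BilinForm ℝ V} (hV : IsMajoranaAmbient mul B) {μ₀ μ₁ : V ≃ₗ[ℝ] V} {a₀ a₁ : V}
    (h₀ : IsMajoranaPair mul B μ₀ a₀) (h₁ : IsMajoranaPair mul B μ₁ a₁) (hn₀ : B a₀ a₀ = 1) (hn₁ : B a₁ a₁ = 1)
    (f₀ : μ₀ a₁ = a₁) (f₁ : μ₁ a₀ = a₀) (hne : a₀ ≠ a₁) :
    (B a₀ a₁ = 0 ∧ mul a₀ a₁ = 0) ∨ (B a₀ a₁ = 1 / 8 ∧
      mul (a₀ + a₁ - (8 : ℝ) • mul a₀ a₁) (a₀ + a₁ - (8 : ℝ) • mul a₀ a₁) = a₀ + a₁ - (8 : ℝ) • mul a₀ a₁ ∧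
      mul a₀ (a₀ + a₁ - (8 : ℝ) • mul a₀ a₁) = (1 / 8 : ℝ) • (a₀ + (a₀ + a₁ - (8 : ℝ) • mul a₀ a₁) - a₁) ∧
      mul a₁ (a₀ + a₁ - (8 : ℝ) • mul a₀ a₁) = (1 / 8 : ℝ) • (a₁ + (a₀ + a₁ - (8 : ℝ) • mul a₀ a₁) - a₀)) := by
  obtain ⟨A1, A2⟩ := half_relations hV h₀ hn₀ f₀ h₁.2.2.1.1.2.1
  obtain ⟨B1, B2⟩ := half_relations hV h₁ hn₁ f₁ h₀.2.2.1.1.2.1
  obtain ⟨hcomm, hsymm, hpos, hassoc, -⟩ := hV
  rw [hcomm a₁ a₀, hsymm a₁ a₀] at B1 B2
  set l := B a₀ a₁ with hl
  set m := mul a₀ a₁ with hm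
  have E1 := A2 B1
  have E2 := B2 A1
  have hdiff : (16 * l * l - 2 * l) • (a₀ - a₁) = 0 := by linear_combination (norm := module) E2 - E1
  have hcases : l = 0 ∨ l = 1 / 8 := by
    have := (smul_eq_zero.1 hdiff).resolve_right (sub_ne_zero.2 hne)
    rcases mul_eq_zero.1 (show l * (8 * l - 1) = 0 by linarith) with h | h
    · exact Or.inl h
    · exact Or.inr (by linarith)
  have haa : mul a₀ a₀ = a₀ := h₀.2.2.1.1.2.1
  have hbb : mul a₁ a₁ = a₁ := h₁.2.2.1.1.2.1
  rcases hcases with h0 | h8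
  · left
    refine ⟨h0, by_contra fun hm0 => ?_⟩
    rw [h0] at B1
    have e1 : B a₀ m = 0 := by rw [hm, hassoc, haa, ← hl, h0]
    have e2 : B m m = B a₀ (mul a₁ m) := by rw [hassoc a₀ a₁ m]
    rw [B1, map_add, map_smul, map_smul, e1] at e2
    have := hpos m hm0
    rw [e2] at this
    simp at this
  · right
    rw [h8] at A1 B1 E1
    refine ⟨h8, ?_, ?_, ?_⟩
    · simp only [map_add, map_sub, map_smul, LinearMap.add_apply, LinearMap.sub_apply, LinearMap.smul_apply]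
      rw [hcomm a₁ a₀, hcomm m a₀, hcomm m a₁, ← hm, haa, hbb, A1, B1]
      linear_combination (norm := module) (2 : ℝ) • E1
    · simp only [map_add, map_sub, map_smul]
      rw [haa, ← hm, A1]
      module
    · simp only [map_add, map_sub, map_smul]
      rw [hcomm a₁ a₀, hbb, ← hm, B1]
      module

/-- an automorphism carries Majorana pairs to Majorana pairs -/
theorem pair_transport {B : LinearMap.BilinForm ℝ V} {g μ : V ≃ₗ[ℝ] V} {a : V}
    (hmul : ∀ u v, g (mul u v) = mul (g u) (g v)) (hB : ∀ u v, B (g u) (g v) = B u v)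
    (h : IsMajoranaPair mul B μ a) : IsMajoranaPair mul B (g * μ * g⁻¹) (g a) := by
  obtain ⟨h1, h2, ⟨⟨ha0, haa, htop, hlaw⟩, hline⟩, hp, hm⟩ := h
  have hinv : ∀ u v, g.symm (mul u v) = mul (g.symm u) (g.symm v) := fun u v =>
    g.injective (by rw [hmul, g.apply_symm_apply, g.apply_symm_apply, g.apply_symm_apply])
  have hBinv : ∀ u v, B (g.symm u) (g.symm v) = B u v := fun u v => by
    rw [← hB, g.apply_symm_apply, g.apply_symm_apply]
  have he : ∀ c, eigen mul (g a) c = (eigen mul a c).map (g : V →ₗ[ℝ] V) := by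
    intro c
    ext v
    simp only [Submodule.mem_map, mem_eigen, LinearEquiv.coe_coe]
    constructor
    · intro hv
      refine ⟨g.symm v, ?_, g.apply_symm_apply v⟩
      apply g.injective
      rw [hmul, map_smul, g.apply_symm_apply, hv]
    · rintro ⟨u, hu, rfl⟩
      rw [← hmul, hu, map_smul]
  have hsum : ∀ S, eigenSum mul (g a) S = (eigenSum mul a S).map (g : V →ₗ[ℝ] V) := fun S => by
    simp only [eigenSum, Submodule.map_iSup, he]
  have happ : ∀ v, (g * μ * g⁻¹ : V ≃ₗ[ℝ] V) v = g (μ (g.symm v)) := fun v => rfl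
  refine ⟨fun u v => ?_, fun u v => ?_, ⟨⟨?_, ?_, ?_, ?_⟩, ?_⟩, ?_, ?_⟩
  · rw [happ, happ, happ, hinv, h1, hmul]
  · rw [happ, happ, hB, h2, hBinv]
  · exact fun e => ha0 (g.injective (e.trans (map_zero g).symm))
  · rw [← hmul, haa]
  · rw [hsum, htop, Submodule.map_top, LinearMap.range_eq_top]
    exact g.surjective
  · intro c hc d hd u hu v hv
    rw [he, Submodule.mem_map] at hu hv
    obtain ⟨u', hu', rfl⟩ := hu
    obtain ⟨v', hv', rfl⟩ := hv
    rw [hsum]
    exact ⟨mul u' v', hlaw c hc d hd u' hu' v' hv', hmul u' v'⟩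
  · rw [he, hline, Submodule.map_span, Set.image_singleton]
    rfl
  · intro v hv
    rw [hsum, Submodule.mem_map] at hv
    obtain ⟨u, hu, rfl⟩ := hv
    show g (μ (g.symm (g u))) = g u
    rw [g.symm_apply_apply]; exact congrArg g (hp u hu)
  · intro v hv
    rw [he, Submodule.mem_map] at hv
    obtain ⟨u, hu, rfl⟩ := hv
    show g (μ (g.symm (g u))) = -g u
    rw [g.symm_apply_apply, ← map_neg]; exact congrArg g (hm u hu)

end CfsgLib.Axial
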